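import Mathlib
import Cfsg.Agent.Lib.Helper51.Zass.Defs

/-!
# ZASS package [SRG]: no strongly regular graph with parameters `(v, 3l, l+1, 4)`, `l ≥ 3`
-/

set_option autoImplicit false

namespace Cfsg.Agent.Lib.Helper88.Zass

open Cfsg.Agent.Lib.Helper51.Zass

universe u

/-- `l² + 6l - 7` is not a square for `l ≥ 3`. -/
theorem srg_not_square (l : ℕ) (hl : 3 ≤ l) : ¬ IsSquare (l * l + 6 * l - 7) := by
  rintro ⟨m, hm⟩
  have h1 : m * m + 7 = l * l + 6 * l := by
    have : 7 ≤ l * l + 6 * l := by nlinarith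
    omega
  have h2 : m < l + 3 := by
    by_contra h
    have : l + 3 ≤ m := by omega
    nlinarith
  have h3 : l ≤ 5 := by
    by_contra h
    have h4 : m ≤ l + 2 := by omega
    nlinarith
  interval_cases l
  · have : m ≤ 5 := by omega
    interval_cases m <;> omega
  · have : m ≤ 6 := by omega
    interval_cases m <;> omega
  · have : m ≤ 7 := by omega
    interval_cases m <;> omega

/-- the trace of a real idempotent matrix is a natural number -/
theorem srg_trace_idem {P : Type u} [Fintype P] [DecidableEq P] (Q : Matrix P P ℝ)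
    (hQ : Q * Q = Q) : ∃ f : ℕ, Q.trace = (f : ℝ) := by
  have he : IsIdempotentElem (Matrix.toLin' Q) := by
    show Matrix.toLin' Q ∘ₗ Matrix.toLin' Q = Matrix.toLin' Q
    rw [← Matrix.toLin'_mul, hQ]
  refine ⟨Module.finrank ℝ (LinearMap.range (Matrix.toLin' Q)), ?_⟩
  rw [← Matrix.trace_toLin'_eq]
  exact (LinearMap.IsIdempotentElem.isProj_range _ he).trace

theorem pkgSRG : PkgSRG.{u} := by
  intro P _ _ adj _ l hne hl hsym hirr hk hlam hmu
  classical
  have hsymm : ∀ a b, adj a b ↔ adj b a := fun a b => ⟨hsym a b, hsym b a⟩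
  obtain ⟨x₀⟩ := hne
  set v : ℕ := Fintype.card P with hv
  have hvpos : 0 < v := Fintype.card_pos_iff.2 ⟨x₀⟩
  have hv0 : (v : ℝ) ≠ 0 := by exact_mod_cast hvpos.ne'
  have hl3 : (3 : ℝ) ≤ (l : ℝ) := by exact_mod_cast hl
  -- the matrices
  obtain ⟨A, hA⟩ : ∃ A : Matrix P P ℝ, A = Matrix.of fun x y => if adj x y then (1 : ℝ) else 0 :=
    ⟨_, rfl⟩
  obtain ⟨J, hJ⟩ : ∃ J : Matrix P P ℝ, J = Matrix.of fun _ _ => (1 : ℝ) := ⟨_, rfl⟩
  have hAentry : ∀ x y, A x y = if adj x y then (1 : ℝ) else 0 := by intro x y; rw [hA]; rfl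
  have hJentry : ∀ x y, J x y = 1 := by intro x y; rw [hJ]; rfl
  have hcount : ∀ x y, (A * A) x y =
      ((Finset.univ.filter (fun w => adj x w ∧ adj y w)).card : ℝ) := by
    intro x y
    rw [Matrix.mul_apply, ← Finset.sum_boole]
    apply Finset.sum_congr rfl
    intro w _
    rw [hAentry, hAentry]
    by_cases h1 : adj x w <;> by_cases h2 : adj y w <;> simp [h1, h2, hsymm w y]
  have hAA : A * A = ((l : ℝ) - 3) • A + (3 * (l : ℝ) - 4) • (1 : Matrix P P ℝ) + (4 : ℝ) • J := by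
    ext x y
    rw [hcount]
    simp only [Matrix.add_apply, Matrix.smul_apply, hAentry, hJentry, smul_eq_mul,
      Matrix.one_apply]
    by_cases hxy : x = y
    · subst hxy
      have : (Finset.univ.filter (fun w => adj x w ∧ adj x w)) =
          (Finset.univ.filter (fun w => adj x w)) := by
        ext w; simp
      rw [this, hk x]
      simp [hirr x]
      try ring
    · by_cases hadj : adj x y
      · rw [hlam x y hadj]
        simp [hadj, hxy]
        try ring
      · rw [hmu x y hxy hadj]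
        simp [hadj, hxy]
  have hAJ : A * J = (3 * (l : ℝ)) • J := by
    ext x y
    rw [Matrix.mul_apply]
    simp only [hJentry, mul_one, Matrix.smul_apply, smul_eq_mul, hAentry]
    rw [Finset.sum_boole, hk x]
    push_cast; ring
  have hJA : J * A = (3 * (l : ℝ)) • J := by
    ext x y
    rw [Matrix.mul_apply]
    simp only [hJentry, one_mul, Matrix.smul_apply, smul_eq_mul, hAentry]
    rw [Finset.sum_boole]
    have : (Finset.univ.filter (fun w => adj w y)) = (Finset.univ.filter (fun w => adj y w)) := by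
      ext w; simp [hsymm w y]
    rw [this, hk y]
    push_cast; ring
  have hJJ : J * J = (v : ℝ) • J := by
    ext x y
    rw [Matrix.mul_apply]
    simp [hJentry, hv]
  -- numerics
  have hnum : (3 * (l : ℝ)) ^ 2 = ((l : ℝ) - 3) * (3 * l) + (3 * (l : ℝ) - 4) + 4 * v := by
    have h1 : (A * A) * J = ((3 * (l : ℝ)) ^ 2) • J := by
      rw [mul_assoc, hAJ, Matrix.mul_smul, hAJ, smul_smul, pow_two]
    have h2 : (A * A) * J =
        (((l : ℝ) - 3) * (3 * l) + (3 * (l : ℝ) - 4) + 4 * v) • J := by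
      rw [hAA, add_mul, add_mul, Matrix.smul_mul, Matrix.smul_mul, Matrix.smul_mul, hAJ,
        Matrix.one_mul, hJJ, smul_smul, smul_smul, ← add_smul, ← add_smul]
    have h3 := congrFun (congrFun (h1.symm.trans h2) x₀) x₀
    simpa [hJentry] using h3
  -- Δ and its square root
  have hΔnat : ((l * l + 6 * l - 7 : ℕ) : ℝ) = (l : ℝ) ^ 2 + 6 * l - 7 := by
    have : 7 ≤ l * l + 6 * l := by nlinarith
    rw [Nat.cast_sub this]; push_cast; ring
  have hirrat : Irrational (√((l * l + 6 * l - 7 : ℕ) : ℝ)) :=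
    irrational_sqrt_natCast_iff.2 (srg_not_square l hl)
  obtain ⟨s, hs⟩ : ∃ s : ℝ, s = √((l * l + 6 * l - 7 : ℕ) : ℝ) := ⟨_, rfl⟩
  rw [← hs] at hirrat
  have hΔpos : (0 : ℝ) < (l : ℝ) ^ 2 + 6 * l - 7 := by nlinarith
  have hs2 : s * s = (l : ℝ) ^ 2 + 6 * l - 7 := by
    rw [hs, hΔnat]; exact Real.mul_self_sqrt hΔpos.le
  have hspos : 0 < s := by
    rw [hs, hΔnat]; exact Real.sqrt_pos.2 hΔpos
  -- B = 2A - a
  obtain ⟨B, hB⟩ : ∃ B : Matrix P P ℝ, B = (2 : ℝ) • A - ((l : ℝ) - 3) • (1 : Matrix P P ℝ) :=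
    ⟨_, rfl⟩
  have hBB : B * B = ((l : ℝ) ^ 2 + 6 * l - 7) • (1 : Matrix P P ℝ) + (16 : ℝ) • J := by
    rw [hB]
    simp only [sub_mul, mul_sub, Matrix.smul_mul, Matrix.mul_smul, Matrix.one_mul, Matrix.mul_one,
      hAA]
    module
  have hBJ : B * J = (5 * (l : ℝ) + 3) • J := by
    rw [hB]
    simp only [sub_mul, Matrix.smul_mul, Matrix.one_mul, hAJ]
    module
  have hJB : J * B = (5 * (l : ℝ) + 3) • J := by
    rw [hB]
    simp only [mul_sub, Matrix.mul_smul, Matrix.mul_one, hJA]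
    module
  -- S = B - β J
  obtain ⟨β, hβ⟩ : ∃ β : ℝ, β = (5 * (l : ℝ) + 3 - s) / v := ⟨_, rfl⟩
  have hβv : β * v = 5 * (l : ℝ) + 3 - s := by rw [hβ]; field_simp
  obtain ⟨S, hS⟩ : ∃ S : Matrix P P ℝ, S = B - β • J := ⟨_, rfl⟩
  have hγ : 16 - 2 * β * (5 * (l : ℝ) + 3) + β ^ 2 * v = 0 := by
    have h4 : (v : ℝ) * (16 - 2 * β * (5 * (l : ℝ) + 3) + β ^ 2 * v) = 0 := by
      have e : (v : ℝ) * (16 - 2 * β * (5 * (l : ℝ) + 3) + β ^ 2 * v) =
          16 * v - 2 * (β * v) * (5 * (l : ℝ) + 3) + (β * v) ^ 2 := by ring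
      rw [e, hβv]
      nlinarith [hnum, hs2]
    rcases mul_eq_zero.1 h4 with h | h
    · exact absurd h hv0
    · exact h
  have hSS : S * S = ((l : ℝ) ^ 2 + 6 * l - 7) • (1 : Matrix P P ℝ) := by
    have e : S * S = ((l : ℝ) ^ 2 + 6 * l - 7) • (1 : Matrix P P ℝ) +
        (16 - 2 * β * (5 * (l : ℝ) + 3) + β ^ 2 * v) • J := by
      rw [hS]
      simp only [sub_mul, mul_sub, Matrix.smul_mul, Matrix.mul_smul, hBB, hBJ, hJB, hJJ]
      module
    rw [e, hγ, zero_smul, add_zero]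
  -- the idempotent
  obtain ⟨Q, hQ⟩ : ∃ Q : Matrix P P ℝ, Q = (1 / (2 * s)) • (S + s • (1 : Matrix P P ℝ)) :=
    ⟨_, rfl⟩
  have hQQ : Q * Q = Q := by
    rw [hQ]
    simp only [Matrix.smul_mul, Matrix.mul_smul, add_mul, mul_add, Matrix.one_mul, Matrix.mul_one,
      hSS, smul_smul]
    rw [← hs2]
    match_scalars <;> field_simp <;> ring
  obtain ⟨f, hf⟩ := srg_trace_idem Q hQQ
  have htrA : A.trace = 0 := by
    unfold Matrix.trace
    apply Finset.sum_eq_zero
    intro x _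
    simp [Matrix.diag, hAentry, hirr x]
  have htrJ : J.trace = v := by
    unfold Matrix.trace
    simp [Matrix.diag, hJentry, hv]
  have htr1 : (1 : Matrix P P ℝ).trace = v := by
    rw [Matrix.trace_one, hv]
  have htrS : S.trace = s - (((l : ℝ) - 3) * v + 5 * l + 3) := by
    rw [hS, hB]
    simp only [Matrix.trace_sub, Matrix.trace_smul, htrA, htrJ, htr1, smul_eq_mul]
    rw [hβv]; ring
  have htrQ : Q.trace = (1 / (2 * s)) * (s - (((l : ℝ) - 3) * v + 5 * l + 3) + s * v) := by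
    rw [hQ]
    simp only [Matrix.trace_smul, Matrix.trace_add, htrS, htr1, smul_eq_mul]
  rw [htrQ] at hf
  -- s * (v + 1 - 2 f) = (l - 3) v + 5 l + 3
  have hkey : s * (((v : ℤ) + 1 - 2 * (f : ℤ) : ℤ) : ℝ) = (((l - 3) * v + 5 * l + 3 : ℕ) : ℝ) := by
    have hne : (2 * s) ≠ 0 := by positivity
    have h5 : s - (((l : ℝ) - 3) * v + 5 * l + 3) + s * v = (f : ℝ) * (2 * s) := by
      field_simp at hf
      linarith
    push_cast
    rw [Nat.cast_sub hl]
    push_cast
    linarith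
  have hm : ((v : ℤ) + 1 - 2 * (f : ℤ)) ≠ 0 := by
    intro h0
    rw [h0] at hkey
    have hpos : (0 : ℝ) < (((l - 3) * v + 5 * l + 3 : ℕ) : ℝ) := by
      have : 0 < (l - 3) * v + 5 * l + 3 := by omega
      exact_mod_cast this
    simp at hkey
    push_cast at hpos
    linarith
  have := hirrat.mul_intCast hm
  rw [hkey] at this
  exact Nat.not_irrational _ this

example : PkgSRG.{u} := pkgSRG

end Cfsg.Agent.Lib.Helper88.Zass
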